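import Groth.Prelude.Def_CohDer
import Mathlib

/-!
Compact objects through finite sub-coproducts: `Fac`, the idempotents `cut X S`, shift stability,
and transport of the finiteness along left adjoints.
-/

universe v u
open CategoryTheory CategoryTheory.Limits

namespace CompactLib

section
variable {D : Type u} [Category.{v} D] [Preadditive D] [HasCoproducts.{v} D]

/-- Maps into a coproduct that are finite sums of maps into the summands. -/
noncomputable def finSub {ι : Type v} (X : ι → D) (C : D) : AddSubgroup (C ⟶ ∐ X) :=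
  AddSubgroup.closure {g | ∃ (k : ι) (a : C ⟶ X k), g = a ≫ Sigma.ι X k}

/-- Every map into a coproduct is a finite sum of maps into the summands. -/
def Fac (C : D) : Prop := ∀ (ι : Type v) (X : ι → D) (f : C ⟶ ∐ X), f ∈ finSub X C

lemma fac_of_compact {C : D} (hC : CohDer.IsCompactObject C) : Fac C := by
  classical
  intro ι X f
  obtain ⟨x, rfl⟩ := (hC ι X).2 f
  induction x using DirectSum.induction_on with
  | zero => rw [map_zero]; exact zero_mem _
  | of k a =>
    exact AddSubgroup.subset_closure ⟨k, a, by simp [CohDer.homSumToHomCoprod, Preadditive.rightComp]⟩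
  | add x y hx hy => rw [map_add]; exact add_mem hx hy

lemma comp_mem_finSub {ι : Type v} {X : ι → D} {B C : D} (a : B ⟶ C) {f : C ⟶ ∐ X}
    (hf : f ∈ finSub X C) : a ≫ f ∈ finSub X B := by
  induction hf using AddSubgroup.closure_induction with
  | mem g hg =>
    obtain ⟨k, b, rfl⟩ := hg
    exact AddSubgroup.subset_closure ⟨k, a ≫ b, by simp⟩
  | zero => rw [comp_zero]; exact zero_mem _
  | add f g _ _ hf hg => rw [Preadditive.comp_add]; exact add_mem hf hg
  | neg f _ hf => rw [Preadditive.comp_neg]; exact neg_mem hf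

open Classical in
/-- The idempotent of `∐ X` cutting out the finite subfamily `S`. -/
noncomputable def cut {ι : Type v} (X : ι → D) (S : Finset ι) : ∐ X ⟶ ∐ X :=
  Sigma.desc fun k => if k ∈ S then Sigma.ι X k else 0

open Classical in
lemma ι_cut {ι : Type v} (X : ι → D) (S : Finset ι) (k : ι) :
    Sigma.ι X k ≫ cut X S = if k ∈ S then Sigma.ι X k else 0 := by simp [cut]

lemma cut_cut {ι : Type v} (X : ι → D) {S T : Finset ι} (h : S ⊆ T) :
    cut X S ≫ cut X T = cut X S := by
  refine Sigma.hom_ext _ _ fun k => ?_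
  rw [← Category.assoc, ι_cut]
  split_ifs with hk
  · rw [ι_cut, if_pos (h hk)]
  · simp

lemma exists_cut_eq {ι : Type v} {X : ι → D} {C : D} {f : C ⟶ ∐ X} (hf : f ∈ finSub X C) :
    ∃ S : Finset ι, f ≫ cut X S = f := by
  classical
  induction hf using AddSubgroup.closure_induction with
  | mem g hg =>
    obtain ⟨k, b, rfl⟩ := hg
    exact ⟨{k}, by rw [Category.assoc, ι_cut, if_pos (Finset.mem_singleton_self k)]⟩
  | zero => exact ⟨∅, zero_comp⟩
  | add f g _ _ hf hg =>
    obtain ⟨S, hS⟩ := hf
    obtain ⟨T, hT⟩ := hg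
    refine ⟨S ∪ T, ?_⟩
    rw [Preadditive.add_comp]
    congr 1
    · rw [← hS, Category.assoc, cut_cut X Finset.subset_union_left]
    · rw [← hT, Category.assoc, cut_cut X Finset.subset_union_right]
  | neg f _ hf =>
    obtain ⟨S, hS⟩ := hf
    exact ⟨S, by rw [Preadditive.neg_comp, hS]⟩

lemma comp_cut_mem {ι : Type v} (X : ι → D) (S : Finset ι) {C : D} (f : C ⟶ ∐ X) :
    f ≫ cut X S ∈ finSub X C := by
  classical
  refine comp_mem_finSub f ?_
  have : cut X S = ∑ k ∈ S, (Sigma.desc fun j => if h : j = k then eqToHom (h ▸ rfl) else 0) ≫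
      Sigma.ι X k := by
    refine Sigma.hom_ext _ _ fun j => ?_
    rw [Preadditive.comp_sum, ι_cut]
    simp only [Sigma.ι_desc_assoc]
    split_ifs with hj
    · rw [Finset.sum_eq_single j]
      · simp
      · intro k _ hk
        rw [dif_neg (Ne.symm hk), zero_comp]
      · exact fun h => absurd hj h
    · refine (Finset.sum_eq_zero fun k hk => ?_).symm
      rw [dif_neg (fun h : j = k => hj (h ▸ hk)), zero_comp]
  rw [this]
  exact sum_mem fun k _ => AddSubgroup.subset_closure ⟨k, _, rfl⟩

lemma Fac.biprod [HasBinaryBiproducts D] {A B : D} (hA : Fac A) (hB : Fac B) : Fac (A ⊞ B) := by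
  intro ι X f
  have h : f = biprod.fst ≫ (biprod.inl ≫ f) + biprod.snd ≫ (biprod.inr ≫ f) := by
    rw [← Category.assoc, ← Category.assoc biprod.snd, ← Preadditive.add_comp, biprod.total,
      Category.id_comp]
  rw [h]
  exact add_mem (comp_mem_finSub _ (hA _ _ _)) (comp_mem_finSub _ (hB _ _ _))

variable [HasShift D ℤ] [∀ n : ℤ, (shiftFunctor D n).Additive]

lemma Fac.shift {C : D} (hC : Fac C) (n : ℤ) : Fac ((shiftFunctor D n).obj C) := by
  intro ι X f
  let F := shiftFunctor D (-n)
  let iso := PreservesCoproduct.iso F X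
  have h := comp_mem_finSub (shiftShiftNeg C n).hom
    (hC _ (fun k => F.obj (X k)) ((shiftShiftNeg C n).inv ≫ F.map f ≫ iso.hom))
  rw [Iso.hom_inv_id_assoc] at h
  have key : ∀ g ∈ finSub (fun k => F.obj (X k)) (F.obj ((shiftFunctor D n).obj C)),
      ∃ g' ∈ finSub X ((shiftFunctor D n).obj C), F.map g' = g ≫ iso.inv := by
    intro g hg
    induction hg using AddSubgroup.closure_induction with
    | mem g hg =>
      obtain ⟨k, b, rfl⟩ := hg
      obtain ⟨b', rfl⟩ := F.map_surjective b
      refine ⟨b' ≫ Sigma.ι X k, AddSubgroup.subset_closure ⟨k, b', rfl⟩, ?_⟩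
      simp [iso, PreservesCoproduct.inv_hom, ι_comp_sigmaComparison]
    | zero => exact ⟨0, zero_mem _, by simp⟩
    | add g g' _ _ hg hg' =>
      obtain ⟨a, ha, ha'⟩ := hg
      obtain ⟨b, hb, hb'⟩ := hg'
      exact ⟨a + b, add_mem ha hb, by rw [F.map_add, Preadditive.add_comp, ha', hb']⟩
    | neg g _ hg =>
      obtain ⟨a, ha, ha'⟩ := hg
      exact ⟨-a, neg_mem ha, by rw [F.map_neg, Preadditive.neg_comp, ha']⟩
  obtain ⟨g', hg', heq⟩ := key _ h
  rw [Category.assoc, Iso.hom_inv_id, Category.comp_id] at heq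
  rwa [F.map_injective heq] at hg'


omit [HasShift D ℤ] [∀ n : ℤ, (shiftFunctor D n).Additive] in
lemma Fac.of_iso {A B : D} (e : A ≅ B) (hA : Fac A) : Fac B := by
  intro ι X f
  have h := comp_mem_finSub e.inv (hA _ _ (e.hom ≫ f))
  rwa [Iso.inv_hom_id_assoc] at h

omit [HasShift D ℤ] [∀ n : ℤ, (shiftFunctor D n).Additive] in
/-- `Fac` is compactness: injectivity is automatic. -/
lemma compact_of_fac {C : D} (hC : Fac C) : CohDer.IsCompactObject C := by
  classical
  intro ι X
  refine ⟨?_, fun f => ?_⟩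
  · let π : ∀ k, ∐ X ⟶ X k := fun k =>
      Sigma.desc fun j => if h : j = k then eqToHom (h ▸ rfl) else 0
    have key : ∀ (x : DirectSum ι (fun i => C ⟶ X i)) (k : ι),
        CohDer.homSumToHomCoprod C X x ≫ π k = x k := by
      intro x k
      induction x using DirectSum.induction_on with
      | zero => simp
      | of j a =>
        rw [show CohDer.homSumToHomCoprod C X (DirectSum.of _ j a) = a ≫ Sigma.ι X j by
          simp [CohDer.homSumToHomCoprod, Preadditive.rightComp], Category.assoc]
        rcases eq_or_ne j k with rfl | hjk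
        · simp [π]
        · simp [π, hjk, DirectSum.of_eq_of_ne _ _ _ (Ne.symm hjk)]
      | add x y hx hy => rw [map_add, Preadditive.add_comp, hx, hy, DirectSum.add_apply]
    intro x y h
    exact DFunLike.ext _ _ fun k => by rw [← key x k, ← key y k, h]
  · have h := hC ι X f
    induction h using AddSubgroup.closure_induction with
    | mem g hg =>
      obtain ⟨k, a, rfl⟩ := hg
      exact ⟨DirectSum.of _ k a, by simp [CohDer.homSumToHomCoprod, Preadditive.rightComp]⟩
    | zero => exact ⟨0, map_zero _⟩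
    | add f g _ _ hf hg =>
      obtain ⟨x, rfl⟩ := hf
      obtain ⟨y, rfl⟩ := hg
      exact ⟨x + y, map_add _ _ _⟩
    | neg f _ hf =>
      obtain ⟨x, rfl⟩ := hf
      exact ⟨-x, map_neg _ _⟩

omit [HasShift D ℤ] [∀ n : ℤ, (shiftFunctor D n).Additive] in
lemma comp_cut_eq_of_le {ι : Type v} {X : ι → D} {C : D} {f : C ⟶ ∐ X} {S T : Finset ι}
    (hS : f ≫ cut X S = f) (h : S ⊆ T) : f ≫ cut X T = f := by
  rw [← hS, Category.assoc, cut_cut X h]

omit [HasShift D ℤ] [∀ n : ℤ, (shiftFunctor D n).Additive] in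
/-- A map from a compact object into the image of a coproduct under a coproduct preserving functor
is cut out by a finite subfamily. -/
lemma exists_map_cut_eq {D' : Type*} [Category.{v} D'] [Preadditive D'] [HasCoproducts.{v} D']
    (L : D ⥤ D') [L.Additive] [PreservesColimitsOfSize.{v, v} L] {ι : Type v} (X : ι → D)
    {K : D'} (hK : Fac K) (u : K ⟶ L.obj (∐ X)) :
    ∃ S : Finset ι, u ≫ L.map (cut X S) = u := by
  classical
  let iso := PreservesCoproduct.iso L X
  obtain ⟨S, hS⟩ := exists_cut_eq (hK _ _ (u ≫ iso.hom))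
  have hcomm : iso.inv ≫ L.map (cut X S) = cut (fun k => L.obj (X k)) S ≫ iso.inv := by
    refine Sigma.hom_ext _ _ fun k => ?_
    rw [← Category.assoc, ← Category.assoc, ι_cut, PreservesCoproduct.inv_hom,
      ι_comp_sigmaComparison, ← L.map_comp, ι_cut]
    split_ifs
    · rw [ι_comp_sigmaComparison]
    · rw [L.map_zero, zero_comp]
  refine ⟨S, ?_⟩
  conv_lhs => rw [show u = (u ≫ iso.hom) ≫ iso.inv by simp]
  rw [Category.assoc, hcomm, ← Category.assoc, hS]
  simp

end

end CompactLib
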